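import Groth.Agent.CurveDrop.Basic
import Groth.Agent.CurveNondeg.Point
import Groth.Agent.Lib.CurveCanonical
import Groth.Agent.H23.InvStalk

/-!
# Evaluation of sections at a rational point of a smooth curve

Over an arbitrary field: the open locus where some section of an invertible module generates, and the effect on
sections of twisting by a rational point inside or outside this locus.
-/

set_option autoImplicit false
set_option maxHeartbeats 1000000
set_option linter.style.haveILetI false
set_option linter.unusedSectionVars false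
set_option backward.isDefEq.respectTransparency false
set_option backward.isDefEq.respectTransparency.types false

noncomputable section

universe u

open CategoryTheory CategoryTheory.Limits AlgebraicGeometry TopologicalSpace Opposite
open Groth.Agent.PnCoh.Finite (mapLin)

attribute [local instance] Curv2.resAlgebra

namespace Groth.Agent.JacSepPts

open Groth.Agent Groth.Agent.CurvePoint Groth.Agent.CurveBundle Groth.Agent.CurveSlope Groth.Agent.CurveStable

variable (k : Type u) [Field k] {X : Scheme.{u}} [X.Over (Spec (CommRingCat.of k))] [IsIntegral X]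
  [IsProper (X ↘ Spec (CommRingCat.of k))]

/-- Some global section generates. -/
def genLocus (L : X.Modules) : Set X :=
  {x | ∃ t : Coh.HH X L 0, x ∉ CohB1.support (cokernel (CurveSpecial.homOfClass t))}

variable {L : X.Modules} (hL : PicF.IsInvertible L)
include hL

include k in
theorem isCoh_cokernel_homOfClass (t : Coh.HH X L 0) : Coh.IsCoh (cokernel (CurveSpecial.homOfClass t)) := by
  haveI := CurveCohLib.isNoetherian_of_proper (k := k) (X := X)
  exact QCoh.isCoh_cokernel QCoh.isCoh_structureModule'.1 (CurveDeg.isCoh_of_isInvertible hL) _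

include k in
theorem isOpen_genLocus : IsOpen (genLocus L) := by
  haveI := CurveCohLib.isNoetherian_of_proper (k := k) (X := X)
  rw [show genLocus L = ⋃ t : Coh.HH X L 0, (CohB1.support (cokernel (CurveSpecial.homOfClass t)))ᶜ from
    Set.ext fun x => by simp only [genLocus, Set.mem_setOf_eq, Set.mem_iUnion, Set.mem_compl_iff]]
  exact isOpen_iUnion fun t =>
    (QCoh.isClosed_support_of_isFT (isCoh_cokernel_homOfClass k hL t).1 (isCoh_cokernel_homOfClass k hL t).2).isOpen_compl

include k in
theorem genericPoint_mem_genLocus (h : 0 < Module.finrank k (Coh.HH X L 0)) : genericPoint X ∈ genLocus L := by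
  haveI := CurveCohLib.isNoetherian_of_proper (k := k) (X := X)
  haveI : Nontrivial (Coh.HH X L 0) := Module.nontrivial_of_finrank_pos (R := k) h
  obtain ⟨t, ht⟩ := exists_ne (0 : Coh.HH X L 0)
  refine ⟨t, fun hx => ?_⟩
  obtain ⟨-, hrk⟩ := CurveCohLib.Nonspecial.section_of_sub k (CurveDeg.isCoh_of_isInvertible hL) hL (𝟙 L)
    (CurveSpecial.homOfClass t) (CurveSpecial.homOfClass_ne_zero ht)
  letI := (isField_stalk_generic (X := X)).toField
  haveI := finite_stalk_of_coh (isCoh_cokernel_homOfClass k hL t) (genericPoint X)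
  exact hx (Module.finrank_zero_iff.1 hrk)

variable {p : X} (hp : IsClosed ({p} : Set X))

/-- A generating section is nonzero in the fibre. -/
theorem not_comp_eq_zero {t : Coh.HH X L 0} (h : p ∉ CohB1.support (cokernel (CurveSpecial.homOfClass t))) :
    CurveSpecial.homOfClass t ≫ (KFlatLib.tensorUnitIso L).inv ≫
      (DCoh.tensorBi.obj L).map (ClSub.toSubscheme (ptIdeal p hp)) ≠ 0 := fun h0 => by
  have hLf := isFinLocFree_of_rank (InvEnd.isFinLocFreeOfRank_one hL)
  have hS := shortExact_of_iso_mid _ _ _
    (CurveTensor.shortExact_tensor hLf _ _ _ (shortExact_pt p hp)) (KFlatLib.tensorUnitIso L)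
  let π : L ⟶ (DCoh.tensorBi.obj L).obj (ClSub.quotMod (ptIdeal p hp)) :=
    (KFlatLib.tensorUnitIso L).inv ≫ (DCoh.tensorBi.obj L).map (ClSub.toSubscheme (ptIdeal p hp))
  haveI : Epi π := hS.epi_g
  let s := CurveSpecial.homOfClass t
  let F := DerSch.stalkFunctor X p
  haveI hs0 : Subsingleton ((cokernel s).presheaf.stalk p) := not_not.1 h
  haveI : Epi (F.map s) := Preadditive.epi_of_isZero_cokernel _
    (IsZero.of_iso (@ModuleCat.isZero_of_subsingleton _ _ (F.obj (cokernel s)) hs0) (PreservesCokernel.iso F s).symm)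
  have h2 : F.map π = 0 := by
    rw [← cancel_epi (F.map s), ← F.map_comp, show s ≫ π = 0 from h0, F.map_zero, comp_zero]
  haveI : Epi (F.map π) := inferInstance
  have hz : IsZero (F.obj ((DCoh.tensorBi.obj L).obj (ClSub.quotMod (ptIdeal p hp)))) := by
    rw [IsZero.iff_id_eq_zero, ← cancel_epi (F.map π), h2]; simp
  obtain ⟨e⟩ := H23.InvStalk.exists_stalk_equiv hL p
  let E := ((KFlatLib.stalkTensorIso p L (ClSub.quotMod (ptIdeal p hp))).toLinearEquiv.symm.trans
    ((TensorProduct.congr e (LinearEquiv.refl _ _)).trans (TensorProduct.lid _ _)))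
  haveI := ModuleCat.subsingleton_of_isZero hz
  exact not_subsingleton_stalk p hp E.symm.toEquiv.subsingleton

include k in
/-- A section which does not generate is zero in the fibre. -/
theorem comp_eq_zero {t : Coh.HH X L 0} (h : p ∈ CohB1.support (cokernel (CurveSpecial.homOfClass t))) :
    CurveSpecial.homOfClass t ≫ (KFlatLib.tensorUnitIso L).inv ≫
      (DCoh.tensorBi.obj L).map (ClSub.toSubscheme (ptIdeal p hp)) = 0 := by
  haveI := CurveCohLib.isNoetherian_of_proper (k := k) (X := X)
  let s := CurveSpecial.homOfClass t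
  let π : L ⟶ (DCoh.tensorBi.obj L).obj (ClSub.quotMod (ptIdeal p hp)) :=
    (KFlatLib.tensorUnitIso L).inv ≫ (DCoh.tensorBi.obj L).map (ClSub.toSubscheme (ptIdeal p hp))
  have hsupp := (CurveTensor.support_tensor_subset (E := L)).trans (support_quot_subset p hp)
  refine Synt29.ConormalExact.hom_ext_stalk _ _ fun x m => ?_
  by_cases hx : x = p
  · subst hx
    let F := DerSch.stalkFunctor X x
    obtain ⟨e⟩ := H23.InvStalk.exists_stalk_equiv hL x
    let g : F.obj L := e.symm 1
    have hg : ∀ y : F.obj L, e y • g = y := fun y => by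
      refine e.injective ?_
      show e (e y • e.symm 1) = e y
      rw [map_smul, LinearEquiv.apply_symm_apply, smul_eq_mul, mul_one]
    have hmem : e (F.map s m) ∈ IsLocalRing.maximalIdeal (X.presheaf.stalk x) := by
      rw [IsLocalRing.mem_maximalIdeal]
      rintro ⟨v, hv⟩
      haveI : Epi (F.map s) := (ModuleCat.epi_iff_surjective _).2 fun y =>
        ⟨(e y * (↑v⁻¹ : X.presheaf.stalk x)) • m, by
          refine (map_smul (F.map s).hom _ m).trans ?_
          refine e.injective ?_
          refine (map_smul e _ _).trans ?_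
          rw [smul_eq_mul]
          refine (congrArg (_ * ·) hv.symm).trans ?_
          rw [mul_assoc, Units.inv_mul, mul_one]⟩
      exact h (ModuleCat.subsingleton_of_isZero
        ((isZero_cokernel_of_epi (F.map s)).of_iso (PreservesCokernel.iso F s)))
    show (F.map (s ≫ π)) m = (F.map 0) m
    rw [F.map_comp, F.map_zero]
    refine (congrArg (F.map π) (hg (F.map s m)).symm).trans ?_
    exact (map_smul (F.map π).hom _ g).trans (smul_tensor_eq_zero x hp hmem _)
  · haveI : Subsingleton (((DCoh.tensorBi.obj L).obj (ClSub.quotMod (ptIdeal p hp))).presheaf.stalk x) :=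
      not_not.1 fun hn => hx (Set.mem_singleton_iff.1 (hsupp hn))
    exact Subsingleton.elim (α := ((DCoh.tensorBi.obj L).obj (ClSub.quotMod (ptIdeal p hp))).presheaf.stalk x) _ _

variable [Smooth (X ↘ Spec (CommRingCat.of k))] (hdim : topologicalKrullDim X = 1)
  (hrat : Function.Surjective (Curv2.resMap k X p))

omit hL in
include hrat in
theorem deg_rat : Curv2.deg k X (ptMod p hp) 1 = -1 := by
  rw [CurveEmbed.deg_point k hp]
  have hb : Function.Bijective (Algebra.linearMap k (X.residueField p)) :=
    ⟨(Curv2.resMap k X p).injective, hrat⟩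
  rw [← (LinearEquiv.ofBijective _ hb).finrank_eq, Module.finrank_self]
  rfl

include hdim hrat in
/-- Twisting by a rational point takes away exactly one section in the locus and none outside. -/
theorem finrank_twist_rat :
    (p ∈ genLocus L → Module.finrank k (Coh.HH X L 0) =
      Module.finrank k (Coh.HH X ((DCoh.tensorBi.obj L).obj (ptMod p hp)) 0) + 1) ∧
    (p ∉ genLocus L → Module.finrank k (Coh.HH X L 0) =
      Module.finrank k (Coh.HH X ((DCoh.tensorBi.obj L).obj (ptMod p hp)) 0)) := by
  haveI := CurveCohLib.isNoetherian_of_proper (k := k) (X := X)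
  have hI := CurveNondeg.isInvertible_pt k hdim hp
  have hM := InvX.isInvertible_tensorMod hL hI
  have hLf := isFinLocFree_of_rank (InvEnd.isFinLocFreeOfRank_one hL)
  have hLc : Coh.IsCoh L := CurveDeg.isCoh_of_isInvertible hL
  have hMc : Coh.IsCoh ((DCoh.tensorBi.obj L).obj (ptMod p hp)) := CurveDeg.isCoh_of_isInvertible hM
  have hS := shortExact_of_iso_mid _ _ _
    (CurveTensor.shortExact_tensor hLf _ _ _ (shortExact_pt p hp)) (KFlatLib.tensorUnitIso L)
  have hsupp := (CurveTensor.support_tensor_subset (E := L)).trans (support_quot_subset p hp)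
  have hQc : Coh.IsCoh ((DCoh.tensorBi.obj L).obj (ClSub.quotMod (ptIdeal p hp))) :=
    CurveTensor.isCoh_tensor hLf (isCoh_quot p hp k)
  have hd := CurveRR.deg_tensor k hdim hL hI
  rw [deg_rat k hp hrat] at hd
  have hadd := euler_add' k _ _ _ hS hMc hLc hQc
  rw [CurveCohLib.euler_eq_finrank_zero hQc (fun x hx => Set.mem_singleton_iff.1 (hsupp hx) ▸ hp)] at hadd
  have hone : Module.finrank k (Coh.HH X ((DCoh.tensorBi.obj L).obj (ClSub.quotMod (ptIdeal p hp))) 0) = 1 := by
    change Curv2.deg k X ((DCoh.tensorBi.obj L).obj (ptMod p hp)) 1 = _ at hd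
    unfold Curv2.deg at hd
    change Curv2.euler k X L = Curv2.euler k X ((DCoh.tensorBi.obj L).obj (ptMod p hp)) + _ at hadd
    push_cast at hd hadd
    omega
  haveI := CurveCohLib.finite_HH (k := k) hLc 0
  haveI := CurveCohLib.finite_HH (k := k) hQc 0
  let π : L ⟶ (DCoh.tensorBi.obj L).obj (ClSub.quotMod (ptIdeal p hp)) :=
    (KFlatLib.tensorUnitIso L).inv ≫ (DCoh.tensorBi.obj L).map (ClSub.toSubscheme (ptIdeal p hp))
  have e5 : Module.finrank k (LinearMap.ker (mapLin k π 0)) =
      Module.finrank k (Coh.HH X ((DCoh.tensorBi.obj L).obj (ptMod p hp)) 0) :=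
    (congrArg (fun S : Submodule k _ => Module.finrank k S) (CurveCohLib.ker_mapLin_g k hS 0)).trans
      (LinearMap.finrank_range_of_inj (CurveCohLib.mapLin_f_zero_injective k hS))
  have hsum := LinearMap.finrank_range_add_finrank_ker (mapLin k π 0)
  have hle : Module.finrank k (LinearMap.range (mapLin k π 0)) ≤ 1 := (Submodule.finrank_le _).trans hone.le
  constructor
  · rintro ⟨t, ht⟩
    have hne : mapLin k π 0 t ≠ 0 := fun h =>
      not_comp_eq_zero hL hp ht (CurveDrop.homOfClass_comp_eq_zero k π t h)
    have hpos : Module.finrank k (LinearMap.range (mapLin k π 0)) ≠ 0 := fun h => hne (by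
      rw [Submodule.finrank_eq_zero] at h
      exact (Submodule.mem_bot k).1 (h ▸ LinearMap.mem_range_self _ t))
    omega
  · intro hp'
    have hzero : mapLin k π 0 = 0 := LinearMap.ext fun t => by
      have h0 := comp_eq_zero k hL hp (t := t) (by_contra fun h => hp' ⟨t, h⟩)
      show mapLin k π 0 t = 0
      refine (map_eq_zero_iff (Sheaf.H.equiv₀ (Coh.toAb ((DCoh.tensorBi.obj L).obj (ClSub.quotMod (ptIdeal p hp)))) isTerminalTop) (AddEquiv.injective _)).1 ?_
      refine Eq.trans (Sheaf.H.equiv₀_naturality isTerminalTop ((QCoh.toAbFunctor X).map π) t).symm ?_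
      have h1 : π.app ⊤ ((CurveSpecial.homOfClass t).app ⊤ (H23.Frame.one ⊤)) = 0 :=
        congrArg (fun φ => φ.app ⊤ (H23.Frame.one ⊤)) h0
      rw [CurveSpecial.homOfClass_one] at h1
      exact h1
    rw [hzero, LinearMap.range_zero, finrank_bot] at hsum
    rw [hzero] at e5
    omega

include hdim hrat in
/-- One section less, still without first cohomology. -/
theorem drop (h1 : Subsingleton (Coh.HH X L 1)) {n : ℕ} (h0 : Module.finrank k (Coh.HH X L 0) = n + 1)
    (hgen : p ∈ genLocus L) :
    Module.finrank k (Coh.HH X ((DCoh.tensorBi.obj L).obj (ptMod p hp)) 0) = n ∧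
      Subsingleton (Coh.HH X ((DCoh.tensorBi.obj L).obj (ptMod p hp)) 1) := by
  haveI := CurveCohLib.isNoetherian_of_proper (k := k) (X := X)
  have hn := (finrank_twist_rat k hL hp hdim hrat).1 hgen
  have hI := CurveNondeg.isInvertible_pt k hdim hp
  have hM := InvX.isInvertible_tensorMod hL hI
  have hd := CurveRR.deg_tensor k hdim hL hI
  rw [deg_rat k hp hrat] at hd
  have hLc : Coh.IsCoh L := CurveDeg.isCoh_of_isInvertible hL
  have hMc : Coh.IsCoh ((DCoh.tensorBi.obj L).obj (ptMod p hp)) := CurveDeg.isCoh_of_isInvertible hM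
  have hχL := CurveRR.euler_eq_h0_sub_h1 k hdim.le hLc.1
  have hχM := CurveRR.euler_eq_h0_sub_h1 k hdim.le hMc.1
  rw [Module.finrank_zero_of_subsingleton (M := Coh.HH X L 1)] at hχL
  haveI : Module.Finite k (Coh.HH X ((DCoh.tensorBi.obj L).obj (ptMod p hp)) 1) := CurveCohLib.finite_HH (k := k) hMc 1
  change Curv2.deg k X ((DCoh.tensorBi.obj L).obj (ptMod p hp)) 1 = _ at hd
  unfold Curv2.deg at hd
  push_cast at hd hχL
  refine ⟨by omega, (Module.finrank_zero_iff (R := k)).1 ?_⟩
  omega

end Groth.Agent.JacSepPts
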