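import Groth.Agent.JacSepPts.Eval
import Groth.Agent.GrpSchLib.SepPoints
import Groth.Agent.CurveBC.Main
import Groth.Agent.GeomField.Connected
import Groth.Agent.GenusOneX.Group
import Groth.Agent.CurveAlgEqLib.IdealPull

/-!
# Rational points of a smooth curve over a separably closed field, and dropping sections

For `X` over a separably closed `k` and an extension `K`, the rational points of `X` are dense in `X_K`, so sections of an
invertible module on `X_K` without first cohomology can be dropped one at a time by points coming from `k`.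
-/

set_option autoImplicit false
set_option maxHeartbeats 1000000
set_option linter.style.haveILetI false
set_option linter.unusedSectionVars false
set_option backward.isDefEq.respectTransparency false
set_option backward.isDefEq.respectTransparency.types false

noncomputable section

universe u

open CategoryTheory CategoryTheory.Limits AlgebraicGeometry TopologicalSpace Opposite

attribute [local instance] Curv2.resAlgebra

namespace Groth.Agent.JacSepPts

open Groth.Agent Groth.Agent.CurvePoint Groth.Agent.CurveStable Groth.Agent.H23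

variable (k : Type u) [Field k] {X : Scheme.{u}} [X.Over (Spec (CommRingCat.of k))] [IsIntegral X]
  [IsProper (X ↘ Spec (CommRingCat.of k))] [Smooth (X ↘ Spec (CommRingCat.of k))]

theorem isInvertible_ker_section (hdim : topologicalKrullDim X = 1) {p : Spec (CommRingCat.of k) ⟶ X}
    (hp : p ≫ X ↘ Spec (CommRingCat.of k) = 𝟙 _) : PicF.IsInvertible (ClSub.idealMod p.ker) := by
  obtain ⟨hx, hker, -⟩ := CurveEmbed.section_point k p hp
  rw [hker]
  exact CurveNondeg.isInvertible_pt k hdim hx

theorem geometricallyConnected_of_isSepClosed [IsSepClosed k] :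
    GeometricallyConnected (X ↘ Spec (CommRingCat.of k)) := by
  obtain ⟨p, hp, -⟩ := GrpSchLib.exists_point_of_smooth (X ↘ Spec (CommRingCat.of k)) ⊤ (x := genericPoint X) trivial
  obtain ⟨hx, -, hsur⟩ := CurveEmbed.section_point k p hp
  exact GeomField.geometricallyConnected_of_point _ fun a _ => hsur a

theorem finrank_h0_of_isSepClosed [IsSepClosed k] : Module.finrank k (Coh.HH X (Coh.structureModule X) 0) = 1 :=
  haveI := geometricallyConnected_of_isSepClosed k (X := X)
  CurveBC.finrank_h0_of_geometricallyConnected k X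

variable {K : Type u} [Field K] [Algebra k K] {XK : Scheme.{u}} [XK.Over (Spec (CommRingCat.of K))]
  [IsIntegral XK] [IsProper (XK ↘ Spec (CommRingCat.of K))] [Smooth (XK ↘ Spec (CommRingCat.of K))]
  {g : XK ⟶ X}
  (hpb : IsPullback g (XK ↘ Spec (CommRingCat.of K)) (X ↘ Spec (CommRingCat.of k))
      (Spec.map (CommRingCat.ofHom (algebraMap k K))))
include hpb

/-- The pullback of the ideal of a rational point is the ideal of a rational point over it. -/
theorem exists_point_over (hdim : topologicalKrullDim X = 1) (hdimK : topologicalKrullDim XK = 1)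
    {p : Spec (CommRingCat.of k) ⟶ X} (hp : p ≫ X ↘ Spec (CommRingCat.of k) = 𝟙 _) :
    ∃ (q : XK) (hq : IsClosed ({q} : Set XK)), g q = p (IsLocalRing.closedPoint k) ∧
      Function.Surjective (Curv2.resMap K XK q) ∧
      Nonempty ((Scheme.Modules.pullback g).obj (ClSub.idealMod p.ker) ≅ ptMod q hq) := by
  let σ : Spec (CommRingCat.of K) ⟶ Spec (CommRingCat.of k) := Spec.map (CommRingCat.ofHom (algebraMap k K))
  let pK : Spec (CommRingCat.of K) ⟶ XK :=
    hpb.lift (σ ≫ p) (𝟙 _) (by rw [Category.assoc, hp, Category.comp_id, Category.id_comp])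
  have h2 : pK ≫ XK ↘ Spec (CommRingCat.of K) = 𝟙 _ := hpb.lift_snd _ _ _
  obtain ⟨hq, hker, hsur⟩ := CurveEmbed.section_point K pK h2
  have hc : p.ker.comap g = pK.ker := GenusOneX.comap_ker_section hpb hp h2 (hpb.lift_fst _ _ _)
  refine ⟨_, hq, ?_, hsur, ?_⟩
  · have h3 : g (pK (IsLocalRing.closedPoint K)) = p (σ (IsLocalRing.closedPoint K)) :=
      congrArg (fun m : Spec (CommRingCat.of K) ⟶ X => m (IsLocalRing.closedPoint K)) (hpb.lift_fst _ _ _)
    haveI : Subsingleton (Spec (CommRingCat.of k)) := inferInstanceAs (Subsingleton (PrimeSpectrum k))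
    exact h3.trans (congrArg p (Subsingleton.elim _ _))
  · have hI : PicF.IsInvertible (ClSub.idealMod (p.ker.comap g)) := by
      rw [hc, hker]
      exact CurveNondeg.isInvertible_pt K hdimK hq
    obtain ⟨e⟩ := CurveAlgEqLib.nonempty_pullback_idealMod g (isInvertible_ker_section k hdim hp) hI
    exact ⟨e ≪≫ eqToIso (by rw [hc, hker])⟩

variable [IsSepClosed k]

/-- Rational points are dense after any extension of the field. -/
theorem exists_section_avoid (hdim : topologicalKrullDim X = 1) (hdimK : topologicalKrullDim XK = 1)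
    {U : Set XK} (hU : IsOpen U) (hη : genericPoint XK ∈ U) :
    ∃ p : Spec (CommRingCat.of k) ⟶ X, p ≫ X ↘ Spec (CommRingCat.of k) = 𝟙 _ ∧
      ∀ y : XK, g y = p (IsLocalRing.closedPoint k) → y ∈ U := by
  haveI := CurveCohLib.isNoetherian_of_proper (k := k) (X := X)
  haveI := CurveCohLib.isNoetherian_of_proper (k := K) (X := XK)
  have hcl : ∀ y ∈ Uᶜ, IsClosed ({y} : Set XK) := fun y hy => by
    by_contra h
    exact hy (CurveCohLib.eq_genericPoint_of_not_isClosed hdimK h ▸ hη)
  have hfin := CurveCohLib.finite_of_closedPoints hU.isClosed_compl hcl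
  let S : Set X := (g '' Uᶜ) ∩ {x | IsClosed ({x} : Set X)}
  have hS : S.Finite := (hfin.image _).inter_of_left _
  have hScl : IsClosed S := by
    rw [← Set.biUnion_of_singleton S]
    exact hS.isClosed_biUnion fun x hx => hx.2
  have hηS : genericPoint X ∉ S := fun h => CurveEmbed.genericPoint_not_closed (X := X) hdim h.2
  obtain ⟨p, hp, hpO⟩ := GrpSchLib.exists_point_of_smooth (X ↘ Spec (CommRingCat.of k)) ⟨Sᶜ, hScl.isOpen_compl⟩
    (x := genericPoint X) hηS
  obtain ⟨hx, -, -⟩ := CurveEmbed.section_point k p hp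
  exact ⟨p, hp, fun y hy => by_contra fun h => hpO ⟨⟨y, h, hy⟩, hx⟩⟩

/-- Sections can be dropped one at a time by rational points of `X`. -/
theorem exists_drop (hdim : topologicalKrullDim X = 1) (hdimK : topologicalKrullDim XK = 1)
    {M : XK.Modules} (hM : PicF.IsInvertible M) (h1 : Subsingleton (Coh.HH XK M 1)) {n : ℕ}
    (h0 : Module.finrank K (Coh.HH XK M 0) = n + 1) :
    ∃ p : Spec (CommRingCat.of k) ⟶ X, p ≫ X ↘ Spec (CommRingCat.of k) = 𝟙 _ ∧
      Module.finrank K (Coh.HH XK (CohB1.tensorMod M ((Scheme.Modules.pullback g).obj (ClSub.idealMod p.ker))) 0) = n ∧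
      Subsingleton (Coh.HH XK (CohB1.tensorMod M ((Scheme.Modules.pullback g).obj (ClSub.idealMod p.ker))) 1) := by
  obtain ⟨p, hp, hav⟩ := exists_section_avoid k hpb hdim hdimK (isOpen_genLocus K hM)
    (genericPoint_mem_genLocus K hM (by omega))
  obtain ⟨q, hq, hgq, hsur, ⟨e⟩⟩ := exists_point_over k hpb hdim hdimK hp
  obtain ⟨h0', h1'⟩ := drop K hM hq hdimK hsur h1 h0 (hav q hgq)
  let ε : CohB1.tensorMod M ((Scheme.Modules.pullback g).obj (ClSub.idealMod p.ker)) ≅
      (DCoh.tensorBi.obj M).obj (ptMod q hq) := (DCoh.tensorBi.obj M).mapIso e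
  refine ⟨p, hp, ((CurveCohLib.hhEquiv (k := K) ε 0).finrank_eq).trans h0', ?_⟩
  exact (CurveCohLib.hhEquiv (k := K) ε 1).toEquiv.subsingleton

/-- Down to one section. -/
theorem exists_sections_drop (hdim : topologicalKrullDim X = 1) (hdimK : topologicalKrullDim XK = 1) :
    ∀ (n : ℕ) (M : XK.Modules), PicF.IsInvertible M → Subsingleton (Coh.HH XK M 1) →
      Module.finrank K (Coh.HH XK M 0) = n + 1 →
      ∃ σ : Fin n → (Spec (CommRingCat.of k) ⟶ X), (∀ t, σ t ≫ X ↘ Spec (CommRingCat.of k) = 𝟙 _) ∧
        PicF.IsInvertible (FGA.tensorList (List.ofFn fun t => ClSub.idealMod (σ t).ker)) ∧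
        Module.finrank K (Coh.HH XK (CohB1.tensorMod M ((Scheme.Modules.pullback g).obj
          (FGA.tensorList (List.ofFn fun t => ClSub.idealMod (σ t).ker)))) 0) = 1 ∧
        Subsingleton (Coh.HH XK (CohB1.tensorMod M ((Scheme.Modules.pullback g).obj
          (FGA.tensorList (List.ofFn fun t => ClSub.idealMod (σ t).ker)))) 1)
  | 0, M, hM, h1, h0 => by
    obtain ⟨e⟩ := PicClLib.nonempty_pullback_structureModule g
    obtain ⟨e'⟩ := PicMul.unit M
    let ε : CohB1.tensorMod M ((Scheme.Modules.pullback g).obj (Coh.structureModule X)) ≅ M :=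
      (DCoh.tensorBi.obj M).mapIso e ≪≫ e'
    refine ⟨fun t => t.elim0, fun t => t.elim0, ?_⟩
    rw [List.ofFn_zero, FGA.tensorList]
    exact ⟨CurveDeg.isInvertible_structureModule, ((CurveCohLib.hhEquiv (k := K) ε 0).finrank_eq).trans h0,
      (CurveCohLib.hhEquiv (k := K) ε 1).toEquiv.subsingleton⟩
  | n + 1, M, hM, h1, h0 => by
    obtain ⟨p, hp, h0', h1'⟩ := exists_drop k hpb hdim hdimK hM h1 h0
    have hI := isInvertible_ker_section k hdim hp
    have hM' := InvX.isInvertible_tensorMod hM (PicClLib.isInvertible_pullback g hI)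
    obtain ⟨σ, hσ, hR, hR0, hR1⟩ := exists_sections_drop hdim hdimK n _ hM' h1' h0'
    refine ⟨Fin.cons p σ, Fin.forall_fin_succ.2 ⟨by simpa using hp, fun i => by simpa using hσ i⟩, ?_⟩
    rw [List.ofFn_succ]
    simp only [Fin.cons_zero, Fin.cons_succ]
    rw [FGA.tensorList]
    obtain ⟨e⟩ := PicMul.pull g (ClSub.idealMod p.ker) (FGA.tensorList (List.ofFn fun t => ClSub.idealMod (σ t).ker))
    obtain ⟨a⟩ := PicMul.assoc M ((Scheme.Modules.pullback g).obj (ClSub.idealMod p.ker))
      ((Scheme.Modules.pullback g).obj (FGA.tensorList (List.ofFn fun t => ClSub.idealMod (σ t).ker)))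
    let ε : CohB1.tensorMod M ((Scheme.Modules.pullback g).obj (CohB1.tensorMod (ClSub.idealMod p.ker)
        (FGA.tensorList (List.ofFn fun t => ClSub.idealMod (σ t).ker)))) ≅
        CohB1.tensorMod (CohB1.tensorMod M ((Scheme.Modules.pullback g).obj (ClSub.idealMod p.ker)))
          ((Scheme.Modules.pullback g).obj (FGA.tensorList (List.ofFn fun t => ClSub.idealMod (σ t).ker))) :=
      (DCoh.tensorBi.obj M).mapIso e ≪≫ a.symm
    exact ⟨InvX.isInvertible_tensorMod hI hR, ((CurveCohLib.hhEquiv (k := K) ε 0).finrank_eq).trans hR0,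
      (CurveCohLib.hhEquiv (k := K) ε 1).toEquiv.subsingleton⟩

end Groth.Agent.JacSepPts
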